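import Groth.Agent.RedSub.H659.GrSym

/-!
# A smooth non-negatively graded algebra with degree `0` part the base ring is a symmetric algebra

`B` is a commutative `R`-algebra with augmentation `ε : B →ₐ[R] R` and a coaction
`ρ : B →ₐ[R] B[X]` of the multiplicative monoid `𝔸¹` contracting `Spec B` to the section `ε`
(i.e. a non-negative grading with `B₀ = R`).  If `B` is formally smooth and of finite type over `R`,
then `B ≃ Sym_R(E)` for a finitely generated projective `R`-module `E` (namely `E = I ⧸ I ^ 2`,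
`I = ker ε`).
-/

set_option autoImplicit false
set_option linter.unusedSectionVars false

universe u v w

open Polynomial

namespace Groth.Agent.RedSub.H659.GrMain

open SymPow GrSym

variable {R : Type*} [CommRing R] {B : Type*} [CommRing B] [Algebra R B]

/-- `ρ` is a contraction of `Spec B` to the section `ε` (a non-negative grading with `B₀ = R`). -/
structure IsContr (ε : B →ₐ[R] R) (ρ : B →ₐ[R] B[X]) : Prop where
  eval_one : ∀ b, (ρ b).eval 1 = b
  coassoc : ∀ b n, ρ ((ρ b).coeff n) = monomial n ((ρ b).coeff n)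
  coeff_zero : ∀ b, (ρ b).coeff 0 = algebraMap R B (ε b)

variable {ε : B →ₐ[R] R} {ρ : B →ₐ[R] B[X]}

/-- the homogeneous component of degree `n` -/
noncomputable def pr (ρ : B →ₐ[R] B[X]) (n : ℕ) : B →ₗ[R] B :=
  ((lcoeff B n).restrictScalars R).comp ρ.toLinearMap

lemma pr_apply (n : ℕ) (b : B) : pr ρ n b = (ρ b).coeff n := rfl

lemma pr_eq_zero_of_lt {n : ℕ} {b : B} (hn : (ρ b).natDegree < n) : pr ρ n b = 0 :=
  coeff_eq_zero_of_natDegree_lt hn

lemma pr_mul (n : ℕ) (a b : B) :
    pr ρ n (a * b) = ∑ x ∈ Finset.antidiagonal n, pr ρ x.1 a * pr ρ x.2 b := by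
  rw [pr_apply, map_mul, coeff_mul]
  rfl

section Contr

variable (h : IsContr ε ρ)

include h

lemma pr_zero (b : B) : pr ρ 0 b = algebraMap R B (ε b) := h.coeff_zero b

lemma pr_pr (m n : ℕ) (b : B) : pr ρ m (pr ρ n b) = if n = m then pr ρ n b else 0 := by
  rw [pr_apply, pr_apply, h.coassoc, coeff_monomial]

lemma pr_pr_same (n : ℕ) (b : B) : pr ρ n (pr ρ n b) = pr ρ n b := by
  rw [pr_pr h, if_pos rfl]

lemma sum_pr {N : ℕ} (b : B) (hN : ∀ n, N ≤ n → pr ρ n b = 0) :
    ∑ n ∈ Finset.range N, pr ρ n b = b := by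
  conv_rhs => rw [← h.eval_one b]
  rw [eval_eq_sum_range' (n := max N ((ρ b).natDegree + 1)) (by omega)]
  simp only [one_pow, mul_one]
  apply Finset.sum_subset
  · intro x hx
    rw [Finset.mem_range] at hx ⊢
    omega
  · intro x _ hx
    rw [Finset.mem_range, not_lt] at hx
    exact hN x hx

lemma sum_pr' (b : B) : ∑ n ∈ Finset.range ((ρ b).natDegree + 1), pr ρ n b = b := by
  apply sum_pr h
  intro n hn
  exact pr_eq_zero_of_lt (by omega)

lemma pr_mem_I {b : B} (hb : b ∈ I ε) (n : ℕ) : pr ρ n b ∈ I ε := by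
  have h1 : algebraMap R B (ε (pr ρ n b)) = 0 := by
    rw [← pr_zero h, pr_pr h]
    split_ifs with h0
    · subst h0
      rw [pr_zero h, show ε b = 0 from hb, map_zero]
    · rfl
  have h2 := congrArg ε h1
  rwa [AlgHom.commutes, map_zero] at h2

lemma pr_mem_I_of_pos {b : B} {n : ℕ} (hn : n ≠ 0) : pr ρ n b ∈ I ε := by
  have h1 : algebraMap R B (ε (pr ρ n b)) = 0 := by
    rw [← pr_zero h, pr_pr h, if_neg hn]
  have h2 := congrArg ε h1
  rwa [AlgHom.commutes, map_zero] at h2

lemma pr_zero_of_mem {b : B} (hb : b ∈ I ε) : pr ρ 0 b = 0 := by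
  rw [pr_zero h, show ε b = 0 from hb, map_zero]

lemma pr_mem_sq {b : B} (hb : b ∈ I ε ^ 2) (n : ℕ) : pr ρ n b ∈ I ε ^ 2 := by
  rw [pow_two] at hb ⊢
  refine Submodule.mul_induction_on hb ?_ ?_
  · intro x hx y hy
    rw [pr_mul]
    exact Ideal.sum_mem _ fun z _ => Ideal.mul_mem_mul (pr_mem_I h hx _) (pr_mem_I h hy _)
  · intro x y hx hy
    rw [map_add]
    exact add_mem hx hy

/-- in high degrees everything is decomposable -/
lemma exists_bound [Module.Finite R (E ε)] : ∃ N, ∀ n, N ≤ n → ∀ x ∈ I ε, pr ρ n x ∈ I ε ^ 2 := by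
  obtain ⟨s, hs⟩ := Module.Finite.fg_top (R := R) (M := E ε)
  choose f hf using q_surjective ε
  let N : ℕ := s.sup fun e => (ρ (f e)).natDegree + 1
  refine ⟨N, fun n hn x hx => ?_⟩
  have key : ∀ e ∈ Submodule.span R (s : Set (E ε)), ∀ x : I ε, q ε x = e →
      pr ρ n x ∈ I ε ^ 2 := by
    intro e he
    induction he using Submodule.span_induction with
    | mem e he =>
      intro x hx
      have h1 : (ρ (f e)).natDegree + 1 ≤ N :=
        Finset.le_sup (f := fun e => (ρ (f e)).natDegree + 1) he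
      have h2 : pr ρ n (f e : B) = 0 := pr_eq_zero_of_lt (by omega)
      have h3 : (x - f e : B) ∈ I ε ^ 2 := by
        rw [← q_eq_iff, hf, hx]
      have h4 := pr_mem_sq h h3 n
      rwa [map_sub, h2, sub_zero] at h4
    | zero =>
      intro x hx
      exact pr_mem_sq h ((q_eq_zero_iff ε x).1 hx) n
    | add a b _ _ ha hb =>
      intro x hx
      have h1 := ha (f a) (hf a)
      have h2 := hb (f b) (hf b)
      have h3 : ((x : B) - ((f a + f b : I ε) : B)) ∈ I ε ^ 2 := by
        rw [← q_eq_iff, map_add, hf, hf, hx]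
      have h4 := pr_mem_sq h h3 n
      rw [map_sub, Submodule.coe_add, map_add] at h4
      have h5 := add_mem h4 (add_mem h1 h2)
      rwa [sub_add_cancel] at h5
    | smul r a _ ha =>
      intro x hx
      have h1 := ha (f a) (hf a)
      have h3 : ((x : B) - ((r • f a : I ε) : B)) ∈ I ε ^ 2 := by
        rw [← q_eq_iff, map_smul, hf, hx]
      have h4 := pr_mem_sq h h3 n
      rw [map_sub, coe_smul_I, ← Algebra.smul_def, map_smul, Algebra.smul_def] at h4
      have h5 := add_mem h4 (Ideal.mul_mem_left _ (algebraMap R B r) h1)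
      rwa [sub_add_cancel] at h5
  exact key (q ε ⟨x, hx⟩) (by rw [hs]; trivial) ⟨x, hx⟩ rfl

/-- **homogeneous section of the cotangent projection** -/
lemma exists_section [Module.Finite R (E ε)] [Module.Projective R (E ε)] :
    ∃ s : E ε →ₗ[R] B, (∀ e, s e ∈ I ε) ∧ (∀ x : I ε, (x : B) - s (q ε x) ∈ I ε ^ 2) ∧
      ∀ (x : I ε) (n : ℕ), pr ρ n (x : B) = x → pr ρ n (s (q ε x)) = s (q ε x) := by
  obtain ⟨N, hN⟩ := exists_bound h
  obtain ⟨s₀, hs₀⟩ := Module.projective_lifting_property (q ε) LinearMap.id (q_surjective ε)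
  have hs : ∀ e, q ε (s₀ e) = e := fun e => DFunLike.congr_fun hs₀ e
  let prI : ℕ → I ε →ₗ[R] I ε := fun n =>
    { toFun := fun x => ⟨pr ρ n x, pr_mem_I h x.2 n⟩
      map_add' := fun x y => by ext; simp
      map_smul' := fun r x => by
        apply Subtype.ext
        change pr ρ n ((r • x : I ε) : B) = ((r • (⟨pr ρ n x, pr_mem_I h x.2 n⟩ : I ε) : I ε) : B)
        rw [coe_smul_I, coe_smul_I, ← Algebra.smul_def, map_smul, Algebra.smul_def] }
  have hprI : ∀ n x, ((prI n x : I ε) : B) = pr ρ n x := fun _ _ => rfl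
  let incl : I ε →ₗ[R] B :=
    { toFun := fun x => x
      map_add' := fun x y => rfl
      map_smul' := fun r x => by rw [coe_smul_I, ← Algebra.smul_def]; rfl }
  let f : I ε →ₗ[R] B := ∑ n ∈ Finset.range N,
    (pr ρ n).comp (incl.comp (s₀.comp ((q ε).comp (prI n))))
  have hf : ∀ x, f x = ∑ n ∈ Finset.range N, pr ρ n (s₀ (q ε (prI n x)) : B) := by
    intro x
    rw [LinearMap.sum_apply]
    rfl
  have hf0 : ∀ x : I ε, (x : B) ∈ I ε ^ 2 → f x = 0 := by
    intro x hx
    rw [hf]
    apply Finset.sum_eq_zero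
    intro n _
    rw [(q_eq_zero_iff ε _).2 (pr_mem_sq h hx n), map_zero, Submodule.coe_zero, map_zero]
  obtain ⟨s, hsf⟩ := exists_desc ε f hf0
  refine ⟨s, ?_, ?_, ?_⟩
  · intro e
    obtain ⟨x, rfl⟩ := q_surjective ε e
    rw [hsf, hf]
    exact Ideal.sum_mem _ fun n _ => pr_mem_I h (s₀ _).2 n
  · intro x
    rw [hsf, hf]
    let M : ℕ := max N ((ρ (x : B)).natDegree + 1)
    have h1 : (x : B) = ∑ n ∈ Finset.range M, pr ρ n (x : B) := by
      rw [sum_pr h]
      intro n hn
      exact pr_eq_zero_of_lt (by omega)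
    have h2 : ∑ n ∈ Finset.range N, pr ρ n (x : B) - x ∈ I ε ^ 2 := by
      suffices h2' : ∑ n ∈ Finset.range N, pr ρ n (x : B) -
          ∑ n ∈ Finset.range M, pr ρ n (x : B) ∈ I ε ^ 2 by rwa [← h1] at h2'
      have hsub : Finset.range N ⊆ Finset.range M := Finset.range_subset_range.2 (by omega)
      rw [← neg_mem_iff, neg_sub, ← Finset.sum_sdiff hsub, add_sub_cancel_right]
      refine Ideal.sum_mem _ fun n hn => ?_
      rw [Finset.mem_sdiff, Finset.mem_range, Finset.mem_range, not_lt] at hn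
      exact hN n hn.2 x x.2
    have h3 : ∑ n ∈ Finset.range N, pr ρ n (s₀ (q ε (prI n x)) : B) -
        ∑ n ∈ Finset.range N, pr ρ n (x : B) ∈ I ε ^ 2 := by
      rw [← Finset.sum_sub_distrib]
      refine Ideal.sum_mem _ fun n _ => ?_
      have h4 : ((s₀ (q ε (prI n x)) : B) - (prI n x : B)) ∈ I ε ^ 2 := by
        rw [← q_eq_iff, hs]
      have h5 := pr_mem_sq h h4 n
      rwa [map_sub, hprI, pr_pr_same h] at h5
    have h6 := neg_mem (add_mem h3 h2)
    convert h6 using 1
    ring
  · intro x n hx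
    have h1 : ∀ m, m ≠ n → prI m x = 0 := by
      intro m hm
      ext
      rw [hprI, ← hx, pr_pr h, if_neg (Ne.symm hm)]
      rfl
    rw [hsf, hf, map_sum]
    apply Finset.sum_congr rfl
    intro m _
    by_cases hm : m = n
    · subst hm
      rw [pr_pr_same h]
    · rw [h1 m hm, map_zero, map_zero, Submodule.coe_zero, map_zero, map_zero]

/-- **Main algebraic theorem.** -/
theorem exists_equiv [Algebra.FormallySmooth R B] [Algebra.FiniteType R B] :
    Nonempty (B ≃ₐ[R] SymmetricAlgebra R (E ε)) := by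
  have hfin := finite_E ε
  have hproj := projective_E ε
  obtain ⟨s, hs1, hs2, hs3⟩ := exists_section h
  let φ : SymmetricAlgebra R (E ε) →ₐ[R] B := SymmetricAlgebra.lift s
  have hφι : ∀ e, φ (SymmetricAlgebra.ι R (E ε) e) = s e := fun e =>
    SymmetricAlgebra.lift_ι_apply s e
  -- surjectivity
  have hsurj' : ∀ n b, pr ρ n b ∈ φ.range := by
    intro n
    induction n using Nat.strong_induction_on with
    | _ n ih =>
      intro b
      by_cases hn : n = 0
      · subst hn
        rw [pr_zero h]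
        exact Subalgebra.algebraMap_mem _ _
      -- decomposable elements
      have hdec : ∀ y ∈ I ε ^ 2, pr ρ n y ∈ φ.range := by
        intro y hy
        rw [pow_two] at hy
        refine Submodule.mul_induction_on hy ?_ ?_
        · intro a ha b hb
          rw [pr_mul]
          refine Subalgebra.sum_mem _ fun z hz => ?_
          rw [Finset.mem_antidiagonal] at hz
          by_cases h1 : z.1 = 0
          · rw [h1, pr_zero_of_mem h ha, zero_mul]
            exact zero_mem _
          by_cases h2 : z.2 = 0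
          · rw [h2, pr_zero_of_mem h hb, mul_zero]
            exact zero_mem _
          exact mul_mem (ih z.1 (by omega) a) (ih z.2 (by omega) b)
        · intro a b ha hb
          rw [map_add]
          exact add_mem ha hb
      let x : I ε := ⟨pr ρ n b, pr_mem_I_of_pos h hn⟩
      have hx : pr ρ n (x : B) = x := pr_pr_same h n b
      have h1 := hdec _ (hs2 x)
      rw [map_sub, hx, hs3 x n hx] at h1
      have h2 : s (q ε x) ∈ φ.range := ⟨SymmetricAlgebra.ι R (E ε) (q ε x), hφι _⟩
      have h3 := add_mem h1 h2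
      rwa [sub_add_cancel] at h3
  have hsurj : Function.Surjective φ := by
    intro b
    have : b ∈ φ.range := by
      rw [← sum_pr' h b]
      exact Subalgebra.sum_mem _ fun n _ => hsurj' n b
    exact this
  -- injectivity
  have hεφ : ε.comp φ = SymmetricAlgebra.algebraMapInv := by
    ext e
    change ε (φ (SymmetricAlgebra.ι R (E ε) e)) = _
    rw [hφι]
    change _ = SymmetricAlgebra.algebraMapInv (SymmetricAlgebra.ι R (E ε) e)
    rw [SymmetricAlgebra.algebraMapInv_ι]
    exact hs1 e
  have hmap : (aug R (E ε)).map φ ≤ I ε := by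
    rw [Ideal.map_le_iff_le_comap]
    intro x hx
    have := DFunLike.congr_fun hεφ x
    change ε (φ x) = 0
    exact this.trans hx
  have hker : RingHom.ker φ ≤ aug R (E ε) ^ 2 := by
    intro x hx
    obtain ⟨r, e, hre⟩ := exists_decomp R (E ε) x
    have h1 : φ (x - algebraMap R _ r - SymmetricAlgebra.ι R (E ε) e) ∈ I ε ^ 2 := by
      have h2 := Ideal.mem_map_of_mem φ hre
      rw [Ideal.map_pow] at h2
      exact Ideal.pow_right_mono hmap 2 h2
    rw [map_sub, map_sub, show φ x = 0 from hx, AlgHom.commutes, hφι, zero_sub] at h1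
    have h3 : r = 0 := by
      have h4 : ε (-algebraMap R B r - s e) = 0 := Ideal.pow_le_self two_ne_zero h1
      rw [map_sub, map_neg, AlgHom.commutes, show ε (s e) = 0 from hs1 e] at h4
      simpa using h4
    subst h3
    obtain ⟨y, rfl⟩ := q_surjective ε e
    rw [map_zero, neg_zero, zero_sub] at h1
    have h5 := add_mem (hs2 y) (neg_mem h1)
    rw [neg_neg, sub_add_cancel] at h5
    rw [(q_eq_zero_iff ε y).2 h5, map_zero, map_zero, sub_zero, sub_zero] at hre
    exact hre
  have hinj : Function.Injective φ := by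
    rw [injective_iff_map_eq_zero]
    intro x hx
    apply eq_zero_of_forall_mem_pow R (E ε)
    intro n
    exact ker_le_pow φ hsurj _ hker n hx
  exact ⟨(AlgEquiv.ofBijective φ ⟨hinj, hsurj⟩).symm⟩

end Contr

/-- the form used for vector groups -/
theorem exists_module {R : Type u} [CommRing R] {B : Type u} [CommRing B] [Algebra R B]
    {ε : B →ₐ[R] R} {ρ : B →ₐ[R] B[X]} (h : IsContr ε ρ)
    [Algebra.FormallySmooth R B] [Algebra.FiniteType R B] :
    ∃ (E : Type u) (_ : AddCommGroup E) (_ : Module R E), Module.Finite R E ∧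
      Module.Projective R E ∧ Nonempty (B ≃ₐ[R] SymmetricAlgebra R E) :=
  ⟨E ε, inferInstance, inferInstance, finite_E ε, projective_E ε, exists_equiv h⟩

end Groth.Agent.RedSub.H659.GrMain
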