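import Groth.Agent.RedSub.H659.SymPow
import Mathlib.RingTheory.FinitePresentation
import Mathlib.RingTheory.FiniteType
import Mathlib.Algebra.Module.Projective

/-!
# A smooth non-negatively graded algebra with degree `0` part the base ring is a symmetric algebra

`B` is a commutative `R`-algebra with augmentation `ε : B →ₐ[R] R` and a coaction
`ρ : B →ₐ[R] B[X]` of the multiplicative monoid `𝔸¹` contracting `Spec B` to the section `ε`
(i.e. a non-negative grading with `B₀ = R`).  If `B` is formally smooth and of finite type over `R`,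
then `B ≃ Sym_R(E)` for a finitely generated projective `R`-module `E` (namely `E = I ⧸ I ^ 2`,
`I = ker ε`).
-/

set_option autoImplicit false
set_option linter.unusedSectionVars false

universe u v w

open Polynomial

namespace Groth.Agent.RedSub.H659.GrSym

open SymPow

variable {R : Type*} [CommRing R] {B : Type*} [CommRing B] [Algebra R B]

section Cotangent

variable (ε : B →ₐ[R] R)

/-- the augmentation ideal -/
abbrev I : Ideal B := RingHom.ker ε

/-- the conormal module of the section `ε` -/
abbrev E : Type _ := (I ε).Cotangent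

/-- the class of an element of the augmentation ideal, as an `R`-linear map -/
noncomputable def q : I ε →ₗ[R] E ε := (I ε).toCotangent.restrictScalars R

lemma q_surjective : Function.Surjective (q ε) := (I ε).toCotangent_surjective

lemma q_eq_zero_iff (x : I ε) : q ε x = 0 ↔ (x : B) ∈ I ε ^ 2 := (I ε).toCotangent_eq_zero x

lemma q_eq_iff (x y : I ε) : q ε x = q ε y ↔ (x - y : B) ∈ I ε ^ 2 := (I ε).toCotangent_eq

lemma exists_desc {M : Type*} [AddCommGroup M] [Module R M] (f : I ε →ₗ[R] M)
    (hf : ∀ x : I ε, (x : B) ∈ I ε ^ 2 → f x = 0) :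
    ∃ g : E ε →ₗ[R] M, ∀ x, g (q ε x) = f x := by
  have h : LinearMap.ker (q ε) ≤ LinearMap.ker f := by
    intro x hx
    exact hf x ((q_eq_zero_iff ε x).1 hx)
  refine ⟨((LinearMap.ker (q ε)).liftQ f h).comp
    ((q ε).quotKerEquivOfSurjective (q_surjective ε)).symm.toLinearMap, fun x => ?_⟩
  have h1 : ((q ε).quotKerEquivOfSurjective (q_surjective ε)).symm (q ε x) =
      Submodule.Quotient.mk x := by
    rw [LinearEquiv.symm_apply_eq]
    rfl
  change (LinearMap.ker (q ε)).liftQ f h
    (((q ε).quotKerEquivOfSurjective (q_surjective ε)).symm (q ε x)) = _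
  rw [h1]
  rfl

/-- the right action -/
noncomputable local instance opMod : Module Rᵐᵒᵖ (E ε) :=
  Module.compHom _ ((RingHom.id R).fromOpposite fun _ _ => mul_comm _ _)

local instance opCentral : IsCentralScalar R (E ε) := ⟨fun _ _ => rfl⟩

lemma coe_smul_I (r : R) (x : I ε) : ((r • x : I ε) : B) = algebraMap R B r * x := by
  rw [← Algebra.smul_def]
  rfl

lemma sub_mem (b : B) : b - algebraMap R B (ε b) ∈ I ε := by
  rw [RingHom.mem_ker, map_sub, AlgHom.commutes]
  simp

/-- `B → R ⊕ I/I²` -/
noncomputable def toTSZ : B →ₐ[R] TrivSqZeroExt R (E ε) :=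
  AlgHom.ofLinearMap
    { toFun := fun b => TrivSqZeroExt.inl (ε b) + TrivSqZeroExt.inr (q ε ⟨_, sub_mem ε b⟩)
      map_add' := fun a b => by
        have : (⟨_, sub_mem ε (a + b)⟩ : I ε) = ⟨_, sub_mem ε a⟩ + ⟨_, sub_mem ε b⟩ := by
          ext
          simp only [map_add, Submodule.coe_add]
          ring
        rw [this, map_add, map_add, TrivSqZeroExt.inl_add, TrivSqZeroExt.inr_add]
        abel
      map_smul' := fun r b => by
        have : (⟨_, sub_mem ε (r • b)⟩ : I ε) = r • ⟨_, sub_mem ε b⟩ := by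
          ext
          rw [coe_smul_I]
          simp only [map_mul, Algebra.smul_def, AlgHom.commutes, Algebra.algebraMap_self,
            RingHom.id_apply]
          ring
        rw [this, map_smul, map_smul, RingHom.id_apply, smul_add]
        ext <;> simp }
    (by
      have : (⟨_, sub_mem ε (1 : B)⟩ : I ε) = 0 := by
        ext
        simp
      change TrivSqZeroExt.inl (ε 1) + TrivSqZeroExt.inr (q ε ⟨_, sub_mem ε 1⟩) = _
      rw [this, map_one, map_zero, TrivSqZeroExt.inr_zero, add_zero, TrivSqZeroExt.inl_one])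
    (by
      intro a b
      change TrivSqZeroExt.inl (ε (a * b)) + TrivSqZeroExt.inr (q ε ⟨_, sub_mem ε (a * b)⟩) =
        (TrivSqZeroExt.inl (ε a) + TrivSqZeroExt.inr (q ε ⟨_, sub_mem ε a⟩)) *
        (TrivSqZeroExt.inl (ε b) + TrivSqZeroExt.inr (q ε ⟨_, sub_mem ε b⟩))
      have h : q ε ⟨_, sub_mem ε (a * b)⟩ = ε a • q ε ⟨_, sub_mem ε b⟩ +
          ε b • q ε ⟨_, sub_mem ε a⟩ := by
        rw [← map_smul, ← map_smul, ← map_add, q_eq_iff]
        have h1 : (a * b - algebraMap R B (ε (a * b)) : B) -
            ((ε a • (⟨_, sub_mem ε b⟩ : I ε) + ε b • (⟨_, sub_mem ε a⟩ : I ε) : I ε) : B) =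
            (a - algebraMap R B (ε a)) * (b - algebraMap R B (ε b)) := by
          rw [Submodule.coe_add, coe_smul_I, coe_smul_I]
          simp only [map_mul]
          ring
        rw [h1, pow_two]
        exact Ideal.mul_mem_mul (sub_mem ε a) (sub_mem ε b)
      rw [h, map_mul]
      ext
      · simp
      · simp [TrivSqZeroExt.snd_mul])

lemma toTSZ_apply (b : B) : toTSZ ε b =
    TrivSqZeroExt.inl (ε b) + TrivSqZeroExt.inr (q ε ⟨_, sub_mem ε b⟩) := rfl

lemma fst_toTSZ (b : B) : (toTSZ ε b).fst = ε b := by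
  rw [toTSZ_apply]
  simp

lemma snd_toTSZ (x : I ε) : (toTSZ ε x).snd = q ε x := by
  rw [toTSZ_apply]
  have hx : ε (x : B) = 0 := x.2
  have : (⟨_, sub_mem ε (x : B)⟩ : I ε) = x := by
    ext
    simp [hx]
  rw [this]
  simp

lemma isNilpotent_ker {C D : Type*} [CommRing C] [CommRing D] (F : C →+* D)
    (h : ∀ x y, F x = 0 → F y = 0 → x * y = 0) : IsNilpotent (RingHom.ker F) := by
  refine ⟨2, ?_⟩
  rw [pow_two, Ideal.zero_eq_bot, eq_bot_iff, Ideal.mul_le]
  intro x hx y hy
  rw [Ideal.mem_bot]
  exact h x y hx hy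

/-- the conormal module of a section of a formally smooth algebra is projective. -/
theorem projective_E [Algebra.FormallySmooth R B] : Module.Projective R (E ε) := by
  apply Module.Projective.of_lifting_property''
  intro f hf
  let F : TrivSqZeroExt R (E ε →₀ R) →ₐ[R] TrivSqZeroExt R (E ε) := TrivSqZeroExt.map f
  have hF : Function.Surjective F := by
    intro y
    obtain ⟨m, hm⟩ := hf y.snd
    refine ⟨TrivSqZeroExt.inl y.fst + TrivSqZeroExt.inr m, ?_⟩
    ext
    · simp [F]
    · simp [F, hm]
  have hker : ∀ y, F y = 0 → y.fst = 0 := by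
    intro y hy
    have := congrArg TrivSqZeroExt.fst hy
    simpa [F] using this
  have hnil : IsNilpotent (RingHom.ker (F : TrivSqZeroExt R (E ε →₀ R) →+*
      TrivSqZeroExt R (E ε))) := by
    apply isNilpotent_ker
    intro x y hx hy
    have h1 := hker x hx
    have h2 := hker y hy
    ext
    · simp [h1]
    · simp [TrivSqZeroExt.snd_mul, h1, h2]
  let G : B →ₐ[R] TrivSqZeroExt R (E ε →₀ R) :=
    Algebra.FormallySmooth.liftOfSurjective (toTSZ ε) F hF hnil
  have hG : ∀ b, F (G b) = toTSZ ε b := fun b =>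
    Algebra.FormallySmooth.liftOfSurjective_apply (toTSZ ε) F hF hnil b
  have hfst : ∀ b, (G b).fst = ε b := by
    intro b
    have h1 := congrArg TrivSqZeroExt.fst (hG b)
    rw [fst_toTSZ] at h1
    simpa [F] using h1
  have hsnd : ∀ b, f (G b).snd = (toTSZ ε b).snd := by
    intro b
    have h1 := congrArg TrivSqZeroExt.snd (hG b)
    simpa [F] using h1
  let g₀ : I ε →ₗ[R] (E ε →₀ R) :=
    { toFun := fun x => (G x).snd
      map_add' := fun x y => by simp
      map_smul' := fun r x => by simp }
  have hg₀ : ∀ x : I ε, (x : B) ∈ I ε ^ 2 → g₀ x = 0 := by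
    intro x hx
    change (G x).snd = 0
    rw [pow_two] at hx
    refine Submodule.mul_induction_on hx ?_ ?_
    · intro a ha b hb
      rw [map_mul, TrivSqZeroExt.snd_mul, hfst, hfst, show ε a = 0 from ha, show ε b = 0 from hb]
      simp
    · intro a b ha hb
      rw [map_add, TrivSqZeroExt.snd_add, ha, hb, add_zero]
  obtain ⟨g, hg⟩ := exists_desc ε g₀ hg₀
  refine ⟨g, ?_⟩
  ext e
  obtain ⟨x, rfl⟩ := q_surjective ε e
  rw [LinearMap.comp_apply, hg]
  change f (G x).snd = q ε x
  rw [hsnd, snd_toTSZ]

/-- the conormal module of a section of an algebra of finite type is finitely generated. -/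
theorem finite_E [hB : Algebra.FiniteType R B] : Module.Finite R (E ε) := by
  obtain ⟨s, hs⟩ := hB.out
  -- the classes of `a - ε a` span
  let t : Set (E ε) := (fun a : B => q ε ⟨_, sub_mem ε a⟩) '' (s : Set B)
  have ht : t.Finite := s.finite_toSet.image _
  have key : ∀ b : B, q ε ⟨_, sub_mem ε b⟩ ∈ Submodule.span R t := by
    intro b
    have hb : b ∈ Algebra.adjoin R (s : Set B) := by rw [hs]; exact Algebra.mem_top
    induction hb using Algebra.adjoin_induction with
    | mem x hx => exact Submodule.subset_span ⟨x, hx, rfl⟩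
    | algebraMap r =>
      have : (⟨_, sub_mem ε (algebraMap R B r)⟩ : I ε) = 0 := by
        ext
        simp
      rw [this, map_zero]
      exact zero_mem _
    | add x y _ _ hx hy =>
      have : (⟨_, sub_mem ε (x + y)⟩ : I ε) = ⟨_, sub_mem ε x⟩ + ⟨_, sub_mem ε y⟩ := by
        ext
        simp only [map_add, Submodule.coe_add]
        ring
      rw [this, map_add]
      exact add_mem hx hy
    | mul x y _ _ hx hy =>
      have h1 : q ε ⟨_, sub_mem ε (x * y)⟩ =
          ε x • q ε ⟨_, sub_mem ε y⟩ + ε y • q ε ⟨_, sub_mem ε x⟩ := by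
        have := congrArg TrivSqZeroExt.snd (map_mul (toTSZ ε) x y)
        rw [TrivSqZeroExt.snd_mul, fst_toTSZ, fst_toTSZ, toTSZ_apply, toTSZ_apply,
          toTSZ_apply] at this
        simpa using this
      rw [h1]
      exact add_mem (Submodule.smul_mem _ _ hy) (Submodule.smul_mem _ _ hx)
  refine ⟨⟨ht.toFinset, ?_⟩⟩
  rw [Set.Finite.coe_toFinset, eq_top_iff]
  intro e _
  obtain ⟨x, rfl⟩ := q_surjective ε e
  have h2 := key x
  have hx : ε (x : B) = 0 := x.2
  have : (⟨_, sub_mem ε (x : B)⟩ : I ε) = x := by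
    ext
    simp [hx]
  rwa [this] at h2

end Cotangent

end Groth.Agent.RedSub.H659.GrSym
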