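import Mathlib.LinearAlgebra.SymmetricAlgebra.Basic
import Mathlib.RingTheory.Smooth.Basic
import Mathlib.RingTheory.Ideal.Cotangent

/-!
# The augmentation ideal of a symmetric algebra, and kernels of surjections onto formally smooth
algebras

* `iInf_pow_aug`: the powers of the augmentation ideal of `Sym_R E` intersect in `0`.
* `ker_le_pow`: a surjection `φ : S → B` onto a formally smooth `R`-algebra whose kernel is
  contained in `J ^ 2` has its kernel contained in all the powers of `J`.
-/

set_option autoImplicit false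

universe u v w

open Polynomial

set_option linter.unusedSectionVars false

namespace Groth.Agent.RedSub.H659.SymPow

section Sym

variable (R : Type*) [CommRing R] (E : Type*) [AddCommGroup E] [Module R E]

/-- the homothety `e ↦ e X` -/
noncomputable def scale : SymmetricAlgebra R E →ₐ[R] (SymmetricAlgebra R E)[X] :=
  SymmetricAlgebra.lift
    (((monomial 1 : SymmetricAlgebra R E →ₗ[SymmetricAlgebra R E] _).restrictScalars R).comp
      (SymmetricAlgebra.ι R E))

@[simp] lemma scale_ι (e : E) : scale R E (SymmetricAlgebra.ι R E e) =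
    monomial 1 (SymmetricAlgebra.ι R E e) := by
  rw [scale, SymmetricAlgebra.lift_ι_apply]
  rfl

lemma eval_one_scale (x : SymmetricAlgebra R E) : (scale R E x).eval 1 = x := by
  have h : ((aeval (R := SymmetricAlgebra R E) (1 : SymmetricAlgebra R E)).restrictScalars R).comp
      (scale R E) = AlgHom.id R _ := by
    ext e
    change aeval (1 : SymmetricAlgebra R E) (scale R E (SymmetricAlgebra.ι R E e)) = _
    rw [scale_ι]
    simp
  have h1 := DFunLike.congr_fun h x
  change aeval (1 : SymmetricAlgebra R E) (scale R E x) = x at h1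
  rwa [coe_aeval_eq_eval] at h1

/-- the augmentation ideal -/
noncomputable def aug : Ideal (SymmetricAlgebra R E) :=
  RingHom.ker (SymmetricAlgebra.algebraMapInv : SymmetricAlgebra R E →ₐ[R] R)

lemma mem_aug {x : SymmetricAlgebra R E} :
    x ∈ aug R E ↔ SymmetricAlgebra.algebraMapInv x = 0 := Iff.rfl

lemma ι_mem_aug (e : E) : SymmetricAlgebra.ι R E e ∈ aug R E :=
  SymmetricAlgebra.algebraMapInv_ι e

lemma coeff_zero_scale (x : SymmetricAlgebra R E) : (scale R E x).coeff 0 =
    algebraMap R _ (SymmetricAlgebra.algebraMapInv x) := by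
  have h : ((aeval (R := SymmetricAlgebra R E) (0 : SymmetricAlgebra R E)).restrictScalars R).comp
      (scale R E) = (Algebra.ofId R _).comp SymmetricAlgebra.algebraMapInv := by
    ext e
    change aeval (0 : SymmetricAlgebra R E) (scale R E (SymmetricAlgebra.ι R E e)) =
      algebraMap R _ (SymmetricAlgebra.algebraMapInv (SymmetricAlgebra.ι R E e))
    rw [scale_ι, SymmetricAlgebra.algebraMapInv_ι]
    simp
  have h1 := DFunLike.congr_fun h x
  change aeval (0 : SymmetricAlgebra R E) (scale R E x) = _ at h1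
  rw [coe_aeval_eq_eval, ← coeff_zero_eq_eval_zero] at h1
  exact h1

lemma X_dvd_scale {x : SymmetricAlgebra R E} (hx : x ∈ aug R E) : X ∣ scale R E x := by
  rw [X_dvd_iff, coeff_zero_scale, (mem_aug R E).1 hx, map_zero]

lemma X_pow_dvd_scale (n : ℕ) {x : SymmetricAlgebra R E} (hx : x ∈ aug R E ^ n) :
    X ^ n ∣ scale R E x := by
  have h1 : (aug R E).map (scale R E) ≤ Ideal.span {X} := by
    rw [Ideal.map_le_iff_le_comap]
    intro y hy
    rw [Ideal.mem_comap, Ideal.mem_span_singleton]
    exact X_dvd_scale R E hy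
  have h2 : scale R E x ∈ ((aug R E).map (scale R E)) ^ n := by
    rw [← Ideal.map_pow]
    exact Ideal.mem_map_of_mem _ hx
  have h3 := Ideal.pow_right_mono h1 n h2
  rwa [Ideal.span_singleton_pow, Ideal.mem_span_singleton] at h3

/-- the powers of the augmentation ideal intersect in zero. -/
theorem eq_zero_of_forall_mem_pow {x : SymmetricAlgebra R E} (hx : ∀ n, x ∈ aug R E ^ n) :
    x = 0 := by
  have h1 : scale R E x = 0 := by
    ext d
    exact X_pow_dvd_iff.1 (X_pow_dvd_scale R E (d + 1) (hx _)) d (Nat.lt_succ_self d)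
  rw [← eval_one_scale R E x, h1, eval_zero]

theorem iInf_pow_aug : ⨅ n, aug R E ^ n = ⊥ := by
  rw [eq_bot_iff]
  intro x hx
  rw [Ideal.mem_bot]
  apply eq_zero_of_forall_mem_pow
  intro n
  exact (Submodule.mem_iInf _).1 hx n

/-- every element is of the form `r + ι e` modulo the square of the augmentation ideal -/
lemma exists_decomp (x : SymmetricAlgebra R E) : ∃ (r : R) (e : E),
    x - algebraMap R _ r - SymmetricAlgebra.ι R E e ∈ aug R E ^ 2 := by
  induction x using SymmetricAlgebra.induction with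
  | algebraMap r => exact ⟨r, 0, by simp⟩
  | ι e => exact ⟨0, e, by simp⟩
  | add a b ha hb =>
    obtain ⟨r, e, h⟩ := ha
    obtain ⟨r', e', h'⟩ := hb
    refine ⟨r + r', e + e', ?_⟩
    have := add_mem h h'
    rw [map_add, map_add]
    convert this using 1
    ring
  | mul a b ha hb =>
    obtain ⟨r, e, h⟩ := ha
    obtain ⟨r', e', h'⟩ := hb
    refine ⟨r * r', r • e' + r' • e, ?_⟩
    rw [map_mul, map_add, map_smul, map_smul, Algebra.smul_def, Algebra.smul_def]
    have h1 : SymmetricAlgebra.ι R E e * SymmetricAlgebra.ι R E e' ∈ aug R E ^ 2 := by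
      rw [pow_two]
      exact Ideal.mul_mem_mul (ι_mem_aug R E e) (ι_mem_aug R E e')
    have h2 := add_mem (add_mem (Ideal.mul_mem_left _ a h')
      (Ideal.mul_mem_right (algebraMap R _ r' + SymmetricAlgebra.ι R E e') _ h)) h1
    convert h2 using 1
    ring

end Sym

section Ker

variable {R : Type*} [CommRing R] {S : Type*} [CommRing S] [Algebra R S]
variable {B : Type*} [CommRing B] [Algebra R B]

/-- if `θ` agrees with the projection modulo `J ^ 2`, it does so modulo `J ^ (k + 1)` on
`J ^ k`. -/
lemma sub_mem_of_mem_pow {C : Type*} [CommRing C] (θ π : S →+* C) (J : Ideal S)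
    (h : ∀ x, θ x - π x ∈ (J ^ 2).map π) (k : ℕ) {x : S} (hx : x ∈ J ^ k) :
    θ x - π x ∈ (J ^ (k + 1)).map π := by
  induction k generalizing x with
  | zero =>
    rw [zero_add, pow_one]
    exact Ideal.map_mono (Ideal.pow_le_self two_ne_zero) (h x)
  | succ k ih =>
    rw [pow_succ] at hx
    refine Submodule.mul_induction_on hx ?_ ?_
    · intro a ha b hb
      have e : θ (a * b) - π (a * b) = (θ a - π a) * π b + π a * (θ b - π b) +
        (θ a - π a) * (θ b - π b) := by
        rw [map_mul, map_mul]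
        ring
      rw [e]
      have h1 : (θ a - π a) * π b ∈ (J ^ (k + 1 + 1)).map π := by
        rw [pow_succ J (k + 1), Ideal.map_mul]
        exact Ideal.mul_mem_mul (ih ha) (Ideal.mem_map_of_mem _ hb)
      have h2 : π a * (θ b - π b) ∈ (J ^ (k + 1 + 1)).map π := by
        rw [show k + 1 + 1 = k + 2 from rfl, pow_add, Ideal.map_mul]
        exact Ideal.mul_mem_mul (Ideal.mem_map_of_mem _ ha) (h b)
      have h3 : (θ a - π a) * (θ b - π b) ∈ (J ^ (k + 1 + 1)).map π := by
        rw [pow_succ J (k + 1), Ideal.map_mul]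
        exact Ideal.mul_mem_mul (ih ha) (Ideal.map_mono (Ideal.pow_le_self two_ne_zero) (h b))
      exact add_mem (add_mem h1 h2) h3
    · intro a b ha hb
      have e : θ (a + b) - π (a + b) = (θ a - π a) + (θ b - π b) := by
        rw [map_add, map_add]
        ring
      rw [e]
      exact add_mem ha hb

/-- **Kernels of surjections onto formally smooth algebras.** -/
theorem ker_le_pow [Algebra.FormallySmooth R B] (φ : S →ₐ[R] B) (hφ : Function.Surjective φ)
    (J : Ideal S) (hJ : RingHom.ker φ ≤ J ^ 2) (n : ℕ) : RingHom.ker φ ≤ J ^ n := by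
  induction n with
  | zero => rw [pow_zero, Ideal.one_eq_top]; exact le_top
  | succ k ih =>
    intro x hx
    by_cases hk : k < 1
    · have : k = 0 := by omega
      subst this
      exact Ideal.pow_le_pow_right (by omega) (hJ hx)
    -- the map `B → S ⧸ J ^ 2`
    have hmk : ∀ a ∈ RingHom.ker φ, Ideal.Quotient.mkₐ R (J ^ 2) a = 0 := fun a ha =>
      Ideal.Quotient.eq_zero_iff_mem.2 (hJ ha)
    let h2 : B →ₐ[R] S ⧸ J ^ 2 :=
      (Ideal.Quotient.liftₐ (RingHom.ker φ) (Ideal.Quotient.mkₐ R (J ^ 2)) hmk).comp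
        (Ideal.quotientKerAlgEquivOfSurjective hφ).symm.toAlgHom
    have hh2 : ∀ a, h2 (φ a) = Ideal.Quotient.mk (J ^ 2) a := by
      intro a
      have h3 : (Ideal.quotientKerAlgEquivOfSurjective hφ).symm (φ a) =
          Ideal.Quotient.mk (RingHom.ker φ) a := by
        rw [AlgEquiv.symm_apply_eq]
        rfl
      change (Ideal.Quotient.liftₐ (RingHom.ker φ) (Ideal.Quotient.mkₐ R (J ^ 2)) hmk)
        ((Ideal.quotientKerAlgEquivOfSurjective hφ).symm (φ a)) = _
      rw [h3]
      rfl
    -- the projection `S ⧸ J ^ (k + 1) → S ⧸ J ^ 2`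
    have hle : J ^ (k + 1) ≤ J ^ 2 := Ideal.pow_le_pow_right (by omega)
    let q : S ⧸ J ^ (k + 1) →ₐ[R] S ⧸ J ^ 2 := Ideal.Quotient.factorₐ R hle
    have hq : Function.Surjective q := Ideal.Quotient.factor_surjective hle
    have hqk : RingHom.ker (q : S ⧸ J ^ (k + 1) →+* S ⧸ J ^ 2) =
        (J ^ 2).map (Ideal.Quotient.mk (J ^ (k + 1))) := by
      apply le_antisymm
      · intro y hy
        obtain ⟨y, rfl⟩ := Ideal.Quotient.mk_surjective y
        have h4 : Ideal.Quotient.mk (J ^ 2) y = 0 := hy
        exact Ideal.mem_map_of_mem _ (Ideal.Quotient.eq_zero_iff_mem.1 h4)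
      · rw [Ideal.map_le_iff_le_comap]
        intro y hy
        change Ideal.Quotient.mk (J ^ 2) y = 0
        exact Ideal.Quotient.eq_zero_iff_mem.2 hy
    have hnil : IsNilpotent (RingHom.ker (q : S ⧸ J ^ (k + 1) →+* S ⧸ J ^ 2)) := by
      refine ⟨k + 1, ?_⟩
      rw [hqk, ← Ideal.map_pow, ← pow_mul, Ideal.zero_eq_bot, Ideal.map_eq_bot_iff_le_ker,
        Ideal.mk_ker]
      exact Ideal.pow_le_pow_right (by omega)
    let g : B →ₐ[R] S ⧸ J ^ (k + 1) := Algebra.FormallySmooth.liftOfSurjective h2 q hq hnil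
    have hg : ∀ b, q (g b) = h2 b := fun b =>
      Algebra.FormallySmooth.liftOfSurjective_apply h2 q hq hnil b
    let θ : S →+* S ⧸ J ^ (k + 1) := (g.comp φ).toRingHom
    have hθ : ∀ y, θ y - Ideal.Quotient.mk (J ^ (k + 1)) y ∈
        (J ^ 2).map (Ideal.Quotient.mk (J ^ (k + 1))) := by
      intro y
      rw [← hqk, RingHom.mem_ker, map_sub, sub_eq_zero]
      change q (g (φ y)) = _
      rw [hg, hh2]
      rfl
    have h5 := sub_mem_of_mem_pow θ (Ideal.Quotient.mk (J ^ (k + 1))) J hθ k (ih hx)
    have h6 : θ x = 0 := by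
      change g (φ x) = 0
      rw [show φ x = 0 from hx, map_zero]
    rw [h6, zero_sub, neg_mem_iff, Ideal.map_quotient_self, Ideal.mem_bot,
      Ideal.Quotient.eq_zero_iff_mem] at h5
    exact h5

end Ker

end Groth.Agent.RedSub.H659.SymPow
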