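import Groth.Agent.Books.DynLim
import Groth.Agent.RedSub.H659.GrMain
import Mathlib.RingTheory.GradedAlgebra.Homogeneous.Ideal

/-!
# The coordinate ring of `U_G(λ)` is non-negatively graded with degree `0` part the base ring
-/

set_option autoImplicit false
set_option linter.unusedSectionVars false

universe u

open LaurentPolynomial TensorProduct WithConv
open Groth.Agent.Books.DynBasic Groth.Agent.Books.DynLim

namespace Groth.Agent.RedSub.H659.UContr

variable {R : Type u} [CommRing R] {A : Type u} [CommRing A] [HopfAlgebra R A]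
variable (l : A →ₐc[R] R[T;T⁻¹])

lemma isHomogeneous_JU : (JU l).IsHomogeneous (gr l) := by
  apply Ideal.IsHomogeneous.sup
  · apply Ideal.homogeneous_span
    rintro x ⟨n, -, hx⟩
    exact ⟨n, hx⟩
  · apply Ideal.homogeneous_span
    rintro x ⟨hx, -⟩
    exact ⟨0, hx⟩

lemma pr_mem_JU {a : A} (ha : a ∈ JU l) (n : ℤ) : pr l n a ∈ JU l := by
  rw [← decompose_apply]
  exact isHomogeneous_JU l n ha

lemma limIsOne_mk : Dyn.LimIsOne R A l (A ⧸ JU l) (Ideal.Quotient.mkₐ R (JU l)) := by
  rw [← vanish_JU_iff]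
  intro a ha
  exact Ideal.Quotient.eq_zero_iff_mem.2 ha

/-- the coaction on `A`, with values in `(A ⧸ JU)[X]` -/
lemma exists_coact : ∃ h : A →ₐ[R] Polynomial (A ⧸ JU l), ∀ (a : A) (n : ℕ),
    (h a).coeff n = Ideal.Quotient.mk (JU l) (pr l n a) := by
  obtain ⟨h, h1, -⟩ := limIsOne_mk l
  exact ⟨h, fun a n => coeff_limit l _ h h1 a n⟩

/-- the augmentation of `A ⧸ JU` -/
noncomputable def eps : A ⧸ JU l →ₐ[R] R :=
  Ideal.Quotient.liftₐ (JU l) (Bialgebra.counitAlgHom R A) fun a ha =>
    (isHopfIdeal_JU l).counit_eq_zero ha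

lemma eps_mk (a : A) : eps l (Ideal.Quotient.mk (JU l) a) = Coalgebra.counit (R := R) a := rfl

lemma mk_pr_neg {n : ℤ} (hn : n < 0) (a : A) : Ideal.Quotient.mk (JU l) (pr l n a) = 0 :=
  ((limIsOne_iff l _).1 (limIsOne_mk l)).1 n hn a

lemma mk_pr_zero (a : A) : Ideal.Quotient.mk (JU l) (pr l 0 a) =
    algebraMap R _ (Coalgebra.counit (R := R) a) :=
  ((limIsOne_iff l _).1 (limIsOne_mk l)).2 a

/-- **The coordinate ring of `U_G(λ)` is contracted to `R`.** -/
theorem exists_isContr : ∃ ρ : A ⧸ JU l →ₐ[R] Polynomial (A ⧸ JU l),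
    GrMain.IsContr (eps l) ρ := by
  obtain ⟨h, hh⟩ := exists_coact l
  have h0 : ∀ a ∈ JU l, h a = 0 := by
    intro a ha
    ext n
    rw [hh, Ideal.Quotient.eq_zero_iff_mem.2 (pr_mem_JU l ha n)]
    rfl
  let ρ : A ⧸ JU l →ₐ[R] Polynomial (A ⧸ JU l) := Ideal.Quotient.liftₐ (JU l) h h0
  have hρ : ∀ a, ρ (Ideal.Quotient.mk (JU l) a) = h a := fun _ => rfl
  refine ⟨ρ, ?_, ?_, ?_⟩
  · intro b
    obtain ⟨a, rfl⟩ := Ideal.Quotient.mk_surjective b
    rw [hρ]
    have key : ∀ (n : ℤ) (a : A), a ∈ gr l n →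
        (h a).eval 1 = Ideal.Quotient.mk (JU l) a := by
      intro n a ha
      by_cases hn : n < 0
      · have h1 : a ∈ JU l := by
          rw [← pr_of_mem_same l ha]
          exact Ideal.Quotient.eq_zero_iff_mem.1 (mk_pr_neg l hn a)
        rw [h0 a h1, Ideal.Quotient.eq_zero_iff_mem.2 h1]
        exact Polynomial.eval_zero
      · obtain ⟨m, rfl⟩ := Int.eq_ofNat_of_zero_le (not_lt.1 hn)
        have h1 : h a = Polynomial.monomial m (Ideal.Quotient.mk (JU l) a) := by
          ext k
          rw [hh, Polynomial.coeff_monomial, pr_of_mem l ha]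
          by_cases hk : m = k
          · subst hk
            rw [if_pos rfl, if_pos rfl]
          · rw [if_neg hk, if_neg (by simpa using hk), map_zero]
        rw [h1, Polynomial.eval_monomial, one_pow, mul_one]
    have h2 : ((Polynomial.aeval (R := A ⧸ JU l) (1 : A ⧸ JU l)).restrictScalars R).comp h =
        Ideal.Quotient.mkₐ R (JU l) := by
      apply AlgHom.toLinearMap_injective
      apply LinearMap.ext
      intro a
      have h3 := sum_pr l a
      rw [← h3, Finsupp.sum, map_sum, map_sum]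
      apply Finset.sum_congr rfl
      intro n _
      change Polynomial.aeval (1 : A ⧸ JU l) (h (pr l n a)) =
        Ideal.Quotient.mk (JU l) (pr l n a)
      rw [Polynomial.coe_aeval_eq_eval]
      exact key n _ (pr_mem_gr l n a)
    have h4 := DFunLike.congr_fun h2 a
    change Polynomial.aeval (1 : A ⧸ JU l) (h a) = _ at h4
    rw [Polynomial.coe_aeval_eq_eval] at h4
    exact h4
  · intro b n
    obtain ⟨a, rfl⟩ := Ideal.Quotient.mk_surjective b
    rw [hρ, hh, hρ]
    ext k
    rw [hh, Polynomial.coeff_monomial, pr_pr]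
    by_cases hk : n = k
    · subst hk
      rw [if_pos rfl, if_pos rfl]
    · rw [if_neg hk, if_neg (by simpa using hk), map_zero]
  · intro b
    obtain ⟨a, rfl⟩ := Ideal.Quotient.mk_surjective b
    rw [hρ, hh, eps_mk]
    exact mk_pr_zero l a

/-- **`U_G(λ)` is a vector bundle.** -/
theorem exists_module [Algebra.Smooth R (A ⧸ JU l)] :
    ∃ (E : Type u) (_ : AddCommGroup E) (_ : Module R E), Module.Finite R E ∧
      Module.Projective R E ∧ Nonempty ((A ⧸ JU l) ≃ₐ[R] SymmetricAlgebra R E) := by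
  obtain ⟨ρ, hρ⟩ := exists_isContr l
  have : Algebra.FinitePresentation R (A ⧸ JU l) := Algebra.Smooth.finitePresentation
  exact GrMain.exists_module hρ

end Groth.Agent.RedSub.H659.UContr
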