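import Groth.Agent.RedSub.H659.UContr
import Groth.Agent.Sga3B.Parab.DynSmooth998
import Groth.Prelude.Def_Par

/-!
# `U_G(λ)` over an affine base is the vector bundle of a projective module;
uniqueness of unipotent radicals
-/

set_option autoImplicit false
set_option linter.unusedSectionVars false

universe u

open CategoryTheory MonoidalCategory CartesianMonoidalCategory MonObj GrpObj AlgebraicGeometry Limits
open Groth.Agent.Books.AffBridge Groth.Agent.Books.DynBasic Groth.Agent.Books.DynLim
open Groth.Agent.Sga3B.Parab.Chart998 Groth.Agent.Sga3B.Parab.AffPts998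
open Groth.Agent.Sga3B.Parab.Rep998 Groth.Agent.Sga3B.Parab.Dyn998
open Groth.Agent.Sga3B.Parab.DynExist998 Groth.Agent.Sga3B.Parab.DynSmooth998
open Groth.Agent.Sga3B.Parab

namespace Groth.Agent.RedSub.H659.UVec

section Unique

variable {S : Scheme.{u}} {P U U' : Over S} [GrpObj P] [GrpObj U] [GrpObj U']

/-- Unipotent radicals are unique. -/
theorem exists_iso_of_isUnipotentRadical {u : U ⟶ P} {u' : U' ⟶ P}
    (h : Par.IsUnipotentRadical u) (h' : Par.IsUnipotentRadical u') :
    ∃ φ : U ≅ U', IsMonHom φ.hom ∧ φ.hom ≫ u' = u := by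
  obtain ⟨h1, h2, h3, h4, h5, h6, h7⟩ := h
  obtain ⟨h1', h2', h3', h4', h5', h6', h7'⟩ := h'
  have : Mono u := Over.mono_of_mono_left u
  have : Mono u' := Over.mono_of_mono_left u'
  obtain ⟨f, hf⟩ := h7' U u h2 h3 h4 h5 h6
  obtain ⟨g, hg⟩ := h7 U' u' h2' h3' h4' h5' h6'
  refine ⟨⟨f, g, ?_, ?_⟩, ?_, hf⟩
  · rw [← cancel_mono u, Category.assoc, hg, hf, Category.id_comp]
  · rw [← cancel_mono u', Category.assoc, hf, hg, Category.id_comp]
  · apply Groth.Agent.Sga3B.Pts.isMonHom_of_points
    intro X x y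
    change (x * y) ≫ f = (x ≫ f) * (y ≫ f)
    rw [← cancel_mono u', Category.assoc, hf, MonObj.mul_comp, MonObj.mul_comp, Category.assoc,
      Category.assoc, hf]

end Unique

section Vec

variable {R : Type u} [CommRing R] {A B : Type u} [CommRing A] [Algebra R A] [CommRing B]
  [Algebra R B]

/-- algebra isomorphisms give isomorphisms of spectra -/
noncomputable def specIso (e : A ≃ₐ[R] B) : SpecOver R A ≅ SpecOver R B where
  hom := specMap R e.symm.toAlgHom
  inv := specMap R e.toAlgHom
  hom_inv_id := by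
    rw [← specMap_comp]
    have : e.symm.toAlgHom.comp e.toAlgHom = AlgHom.id R A := by
      ext a
      exact e.symm_apply_apply a
    rw [this, specMap_id]
  inv_hom_id := by
    rw [← specMap_comp]
    have : e.toAlgHom.comp e.symm.toAlgHom = AlgHom.id R B := by
      ext a
      exact e.apply_symm_apply a
    rw [this, specMap_id]

variable {G U : Over (Spec (CommRingCat.of R))} [GrpObj G] [GrpObj U]
  {lam : Red.Gm (Spec (CommRingCat.of R)) ⟶ G} [IsMonHom lam]

/-- **`U_G(λ)` over an affine base is the vector bundle of a projective module.** -/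
theorem exists_vec [IsAffineHom G.hom] [Smooth G.hom] {u : U ⟶ G} (hu : IsDynU lam u) :
    ∃ (E : Type u) (_ : AddCommGroup E) (_ : Module R E), Module.Finite R E ∧
      Module.Projective R E ∧ Nonempty (U ≅ SpecOver R (SymmetricAlgebra R E)) := by
  have hGa : IsAffine G.left := isAffine_of_isAffineHom G.hom
  obtain ⟨A, _, _, e, _⟩ := exists_hopf R G
  obtain ⟨φ, -⟩ := hu.exists_chart (chartId e)
  let ψ : U ≅ SpecOver R (A ⧸ JU (lamB lam (chartId e))) := (bcId U).symm ≪≫ φ
  have hs : Algebra.Smooth R (A ⧸ JU (lamB lam (chartId e))) :=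
    (smooth_alg _ _).1 (smooth_of_iso ψ.symm (isDynU_smooth hu))
  obtain ⟨E, _, _, h1, h2, ⟨i⟩⟩ := UContr.exists_module (lamB lam (chartId e))
  exact ⟨E, inferInstance, inferInstance, h1, h2, ⟨ψ ≪≫ specIso i⟩⟩

end Vec

end Groth.Agent.RedSub.H659.UVec
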